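import Groth.Agent.H46.LocSec.Domain
import Groth.Agent.Lib.HTopSheaf.FiniteRefine

/-!
# Finite surjective morphisms after which universally open surjective morphisms have local sections
-/

set_option autoImplicit false

universe u

open CategoryTheory CategoryTheory.Limits AlgebraicGeometry

namespace Groth.Agent.H46.LocSec.Global

/-- `f` has a section near `y'` over the base change by `g`. -/
def Sec {X Y Y' : Scheme.{u}} (f : X ⟶ Y) (g : Y' ⟶ Y) (y' : Y') : Prop :=
  ∃ (W : Scheme.{u}) (j : W ⟶ Y') (_ : IsOpenImmersion j), y' ∈ Set.range j ∧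
    ∃ t : W ⟶ X, t ≫ f = j ≫ g

theorem Sec.comp {X Y Y' Z : Scheme.{u}} {f : X ⟶ Y} {g : Y' ⟶ Y} (c : Z ⟶ Y') {z : Z}
    (h : Sec f g (c z)) : Sec f (c ≫ g) z := by
  obtain ⟨W, j, hj, ⟨w, hw⟩, t, ht⟩ := h
  refine ⟨pullback c j, pullback.fst c j, inferInstance, ?_, pullback.snd c j ≫ t, ?_⟩
  · rw [Scheme.Pullback.range_fst]
    exact ⟨w, hw⟩
  · rw [Category.assoc, ht, ← pullback.condition_assoc]

theorem isOpen_setOf_sec {X Y Y' : Scheme.{u}} (f : X ⟶ Y) (g : Y' ⟶ Y) :
    IsOpen {y' : Y' | Sec f g y'} := by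
  rw [isOpen_iff_forall_mem_open]
  rintro y ⟨W, j, hj, hy, t, ht⟩
  exact ⟨Set.range j, fun z hz => ⟨W, j, hj, hz, t, ht⟩, j.isOpenEmbedding.isOpen_range, hy⟩

theorem exists_affine_at {A : Type u} [CommRing A] [IsNoetherianRing A] {X : Scheme.{u}}
    (f : X ⟶ Spec (CommRingCat.of A)) [LocallyOfFiniteType f] [UniversallyOpen f] [Surjective f]
    (p : PrimeSpectrum A) :
    ∃ (W : Scheme.{u}) (g : W ⟶ Spec (CommRingCat.of A)), IsFinite g ∧ Surjective g ∧
      ∀ w : W, g w = p → Sec f g w := by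
  classical
  let ι := ↥(minimalPrimes A)
  have : Finite ι := (minimalPrimes.finite_of_isNoetherianRing A).to_subtype
  have hpr : ∀ P : ι, P.1.IsPrime := fun P => P.2.1.1
  have H : ∀ P : ι, ∃ (C : Type u) (_ : CommRing C) (_ : Algebra A C), Module.Finite A C ∧
      (RingHom.ker (algebraMap A C) = P.1) ∧
      ∀ Q : Ideal C, Q.IsPrime → Q.comap (algebraMap A C) = p.asIdeal →
        ∃ g : C, g ∉ Q ∧ ∃ t : Spec (CommRingCat.of (Localization.Away g)) ⟶ X,
          t ≫ f = Spec.map (CommRingCat.ofHom (algebraMap A (Localization.Away g))) := by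
    intro P
    by_cases hP : P.1 ≤ p.asIdeal
    · let R := A ⧸ P.1
      have : (p.asIdeal.map (Ideal.Quotient.mk P.1)).IsPrime :=
        Ideal.map_isPrime_of_surjective Ideal.Quotient.mk_surjective (by rw [Ideal.mk_ker]; exact hP)
      obtain ⟨C, _, _, hC, hinj, hsec⟩ := Domain.exists_finite_domain
        (pullback.snd f (Spec.map (CommRingCat.ofHom (Ideal.Quotient.mk P.1))))
        (p.asIdeal.map (Ideal.Quotient.mk P.1))
      let : Algebra A C := ((algebraMap R C).comp (Ideal.Quotient.mk P.1)).toAlgebra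
      have : IsScalarTower A R C := IsScalarTower.of_algebraMap_eq fun _ => rfl
      have : Module.Finite A R := Module.Finite.quotient A P.1
      refine ⟨C, inferInstance, inferInstance, Module.Finite.trans R C, ?_, fun Q hQ hQp => ?_⟩
      · rw [RingHom.algebraMap_toAlgebra, ← RingHom.comap_ker,
          (RingHom.injective_iff_ker_eq_bot _).mp hinj]
        exact Ideal.mk_ker
      · obtain ⟨g, hg, t, ht⟩ := hsec Q hQ (by
          rw [← hQp, RingHom.algebraMap_toAlgebra, ← Ideal.comap_comap,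
            Ideal.map_comap_of_surjective _ Ideal.Quotient.mk_surjective])
        refine ⟨g, hg, t ≫ pullback.fst _ _, ?_⟩
        rw [Category.assoc, pullback.condition, reassoc_of% ht, ← Spec.map_comp]
        congr 1
    · refine ⟨A ⧸ P.1, inferInstance, inferInstance, Module.Finite.quotient A P.1, Ideal.mk_ker,
        fun Q hQ hQp => absurd ?_ hP⟩
      rw [← hQp]
      exact fun x hx => by
        rw [Ideal.mem_comap, Ideal.Quotient.algebraMap_eq, Ideal.Quotient.eq_zero_iff_mem.mpr hx]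
        exact Q.zero_mem
  choose C _ _ hfin hker hsec using H
  have : Module.Finite A (Π P, C P) := Module.Finite.pi
  refine ⟨Spec (CommRingCat.of (Π P, C P)),
    Spec.map (CommRingCat.ofHom (algebraMap A (Π P, C P))),
    (IsFinite.SpecMap_iff _).mpr (RingHom.finite_algebraMap.mpr inferInstance), ⟨fun x => ?_⟩, ?_⟩
  · obtain ⟨P, hP, hPx⟩ :=
      Ideal.exists_minimalPrimes_le (bot_le : (⊥ : Ideal A) ≤ (x : PrimeSpectrum A).asIdeal)
    have : Algebra.IsIntegral A (C ⟨P, hP⟩) := Algebra.IsIntegral.of_finite _ _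
    obtain ⟨Q, -, hQ, hQx⟩ := Ideal.exists_ideal_over_prime_of_isIntegral
      (x : PrimeSpectrum A).asIdeal (⊥ : Ideal (C ⟨P, hP⟩))
      ((hker ⟨P, hP⟩).le.trans hPx)
    exact ⟨PrimeSpectrum.comap (Pi.evalRingHom C ⟨P, hP⟩) ⟨Q, hQ⟩, PrimeSpectrum.ext hQx⟩
  · intro w hw
    obtain ⟨P, Q, rfl⟩ := PrimeSpectrum.exists_comap_evalRingHom_eq (R := C) w
    obtain ⟨g, hg, t, ht⟩ := hsec P Q.asIdeal Q.2 (congrArg PrimeSpectrum.asIdeal hw)
    refine ⟨Spec (CommRingCat.of (Localization.Away g)),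
      Spec.map (CommRingCat.ofHom (algebraMap (C P) (Localization.Away g))) ≫
        Spec.map (CommRingCat.ofHom (Pi.evalRingHom C P)),
      inferInstance, ?_, t, ?_⟩
    · obtain ⟨z, hz⟩ : Q ∈ Set.range (PrimeSpectrum.comap (algebraMap (C P) (Localization.Away g))) := by
        rw [PrimeSpectrum.localization_away_comap_range (Localization.Away g) g]
        exact hg
      exact ⟨z, congrArg (PrimeSpectrum.comap (Pi.evalRingHom C P)) hz⟩
    · rw [ht, Category.assoc, ← Spec.map_comp, ← Spec.map_comp]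
      congr 1

theorem exists_global {X Y : Scheme.{u}} [IsNoetherian Y] (f : X ⟶ Y) [UniversallyOpen f]
    [Surjective f] [LocallyOfFiniteType f] :
    ∃ (Y' : Scheme.{u}) (g : Y' ⟶ Y), IsFinite g ∧ Surjective g ∧ ∀ y' : Y', Sec f g y' := by
  classical
  have H : ∀ y : Y, ∃ (W : Scheme.{u}) (g : W ⟶ Y), IsFinite g ∧ Surjective g ∧
      ∀ w : W, g w = y → Sec f g w := by
    intro y
    obtain ⟨V, hV, hyV, -⟩ := exists_isAffineOpen_mem_and_subset (x := y) (U := (⊤ : Y.Opens)) trivial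
    have : IsNoetherianRing Γ(Y, V) := IsLocallyNoetherian.component_noetherian ⟨V, hV⟩
    let fV := pullback.snd f hV.fromSpec
    obtain ⟨p, hp⟩ : y ∈ Set.range hV.fromSpec := hV.range_fromSpec.ge hyV
    obtain ⟨W, g, hg, hgs, hsec⟩ := exists_affine_at (A := Γ(Y, V)) fV p
    obtain ⟨W', q', h1, h2, hfac⟩ :=
      Lib.HTopSheaf.FiniteRefine.exists_extend hV.fromSpec g
    refine ⟨W', q', h1, h2, fun w hw => ?_⟩
    obtain ⟨c, hc⟩ := hfac (pullback.fst q' hV.fromSpec) (pullback.snd q' hV.fromSpec) pullback.condition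
    obtain ⟨z, hz, hz'⟩ := Scheme.Pullback.exists_preimage_pullback (f := q') (g := hV.fromSpec) w p (hw.trans hp.symm)
    obtain ⟨W₁, j, hj, hr, t, ht⟩ := (hsec (c z) (by
      rw [← Scheme.Hom.comp_apply, hc]; exact hz')).comp c
    refine ⟨W₁, j ≫ pullback.fst q' hV.fromSpec, inferInstance, ?_, t ≫ pullback.fst f _, ?_⟩
    · obtain ⟨a, ha⟩ := hr
      exact ⟨a, by rw [Scheme.Hom.comp_apply, ha, hz]⟩
    · rw [Category.assoc, pullback.condition, ← Category.assoc, ht, hc, Category.assoc,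
        Category.assoc, ← pullback.condition]
  choose W g hg hgs hsec using H
  let O : Y → Set Y := fun y => (g y '' {w | Sec f (g y) w}ᶜ)ᶜ
  have hOo : ∀ y, IsOpen (O y) := fun y => by
    have := hg y
    exact ((g y).isClosedMap _ (isOpen_setOf_sec f (g y)).isClosed_compl).isOpen_compl
  obtain ⟨s, hs⟩ := isCompact_univ.elim_finite_subcover O hOo fun y _ =>
    Set.mem_iUnion.mpr ⟨y, fun ⟨w, hw, hwy⟩ => hw (hsec y w hwy)⟩
  obtain ⟨M, m, hm, hms, hp⟩ : ∃ (M : Scheme.{u}) (m : M ⟶ Y), IsFinite m ∧ Surjective m ∧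
      ∀ i ∈ s, ∃ p : M ⟶ W i, p ≫ g i = m := by
    clear hs
    induction s using Finset.induction_on with
    | empty => exact ⟨Y, 𝟙 Y, inferInstance, inferInstance, by simp⟩
    | @insert j t _ ih =>
      obtain ⟨M, m, h1, h2, h3⟩ := ih
      have := hg j
      have := hgs j
      refine ⟨pullback m (g j), pullback.fst m (g j) ≫ m, inferInstance, inferInstance, fun i hi => ?_⟩
      rcases Finset.mem_insert.mp hi with rfl | hi
      · exact ⟨pullback.snd _ _, pullback.condition.symm⟩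
      · obtain ⟨p, hp⟩ := h3 i hi
        exact ⟨pullback.fst _ _ ≫ p, by rw [Category.assoc, hp]⟩
  refine ⟨M, m, hm, hms, fun z => ?_⟩
  obtain ⟨i, hi, hmz⟩ := Set.mem_iUnion₂.mp (hs (Set.mem_univ (m z)))
  obtain ⟨pi, hpi⟩ := hp i hi
  have : Sec f (g i) (pi z) := by
    by_contra h
    exact hmz ⟨pi z, h, by rw [← Scheme.Hom.comp_apply, hpi]⟩
  exact hpi ▸ this.comp pi

end Groth.Agent.H46.LocSec.Global
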