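import Groth.Agent.S2474
import Mathlib.FieldTheory.Normal.Basic
import Mathlib.RingTheory.Localization.Integral
import Mathlib.RingTheory.Ideal.GoingUp

/-!
# Separating the branches of a noetherian domain at a prime
-/

set_option autoImplicit false

universe u

open Polynomial

namespace Groth.Agent.H46.LocSec.Branch

variable (A : Type u) [CommRing A] (K : Type u) [Field K] [Algebra A K] [IsFractionRing A K]

/-- An element fixed by all automorphisms of a normal extension has a positive power in the base. -/
theorem exists_pow_mem (K' : Type u) [Field K'] [Algebra K K'] [FiniteDimensional K K'] [Normal K K']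
    (y : K') (hy : ∀ σ : K' ≃ₐ[K] K', σ y = y) : ∃ n, 0 < n ∧ ∃ c : K, algebraMap K K' c = y ^ n := by
  have hint : IsIntegral K y := IsIntegral.of_finite K y
  let P := (minpoly K y).map (algebraMap K K')
  have hsplit : P.Splits := Normal.splits inferInstance y
  have hroot : ∀ z ∈ P.roots, z = y := fun z hz => by
    have hz' : aeval z (minpoly K y) = 0 := by
      rw [aeval_def, ← eval_map]
      exact (mem_roots'.mp hz).2
    obtain ⟨σ, hσ⟩ := minpoly.exists_algEquiv_of_root' hint.isAlgebraic hz'
    rw [← hσ, hy σ]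
  have hmonic : P.Monic := (minpoly.monic hint).map _
  have h0 := hsplit.coeff_zero_eq_prod_roots_of_monic hmonic
  rw [Multiset.eq_replicate_card.mpr hroot, Multiset.prod_replicate, coeff_map] at h0
  refine ⟨P.roots.card, ?_, (-1 : K) ^ P.natDegree * (minpoly K y).coeff 0, ?_⟩
  · rw [Nat.pos_iff_ne_zero, ← hsplit.natDegree_eq_card_roots, natDegree_map]
    exact (minpoly.natDegree_pos hint).ne'
  · rw [map_mul, h0, map_pow, map_neg, map_one, ← mul_assoc, ← mul_pow, neg_one_mul, neg_neg,
      one_pow, one_mul]

/-- Two primes of the integral closure in a finite normal extension lying over the same prime of the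
integral closure in the fraction field are conjugate. -/
theorem exists_conj (K' : Type u) [Field K'] [Algebra A K'] [Algebra K K'] [IsScalarTower A K K']
    [FiniteDimensional K K'] [Normal K K']
    (P Q : Ideal (integralClosure A K')) [P.IsPrime] [Q.IsPrime]
    (h : ∀ (y : integralClosure A K') (c : K), algebraMap K K' c = (y : K') → (y ∈ P ↔ y ∈ Q)) :
    ∃ σ : K' ≃ₐ[K] K', ∀ x : integralClosure A K',
      x ∈ Q ↔ (⟨σ x.1, x.2.map (σ.restrictScalars A)⟩ : integralClosure A K') ∈ P := by
  classical
  let act : (K' ≃ₐ[K] K') → integralClosure A K' →+* integralClosure A K' := fun σ =>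
    RingHom.codRestrict ((σ : K' →+* K').comp (integralClosure A K').val.toRingHom) _
      fun x => x.2.map (σ.restrictScalars A)
  suffices hle : ∃ σ, Q ≤ P.comap (act σ) by
    obtain ⟨σ, hσ⟩ := hle
    refine ⟨σ, fun x => ⟨fun hx => hσ hx, fun hx => ?_⟩⟩
    by_contra hxQ
    refine absurd ?_ (lt_irrefl (Q.comap (algebraMap A (integralClosure A K'))))
    refine lt_of_lt_of_le (Ideal.comap_lt_comap_of_integral_mem_sdiff hσ ⟨hx, hxQ⟩
      (Algebra.IsIntegral.isIntegral x)) fun a ha => ?_
    have he : act σ (algebraMap A _ a) = algebraMap A _ a :=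
      Subtype.ext (show σ (algebraMap A K' a) = algebraMap A K' a by
        rw [IsScalarTower.algebraMap_apply A K K', σ.commutes])
    rw [Ideal.mem_comap, Ideal.mem_comap, he] at ha
    exact (h (algebraMap A _ a) (algebraMap A K a) (IsScalarTower.algebraMap_apply A K K' a).symm).mp ha
  suffices hsub : (Q : Set (integralClosure A K')) ⊆
      ⋃ σ ∈ (↑(Finset.univ : Finset (K' ≃ₐ[K] K')) : Set _), (P.comap (act σ) : Set _) by
    obtain ⟨σ, -, hσ⟩ := (Ideal.subset_union_prime (f := fun σ => P.comap (act σ))
      AlgEquiv.refl AlgEquiv.refl fun σ _ _ _ => inferInstance).mp hsub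
    exact ⟨σ, hσ⟩
  intro x hx
  let y := ∏ σ : K' ≃ₐ[K] K', act σ x
  have hfix : ∀ τ : K' ≃ₐ[K] K', τ (y : K') = y := fun τ => by
    rw [show (y : K') = ∏ σ : K' ≃ₐ[K] K', σ (x : K') from map_prod (integralClosure A K').val _ _,
      map_prod]
    exact Fintype.prod_equiv (Equiv.mulLeft τ) _ _ fun σ => rfl
  obtain ⟨n, hn, c, hc⟩ := exists_pow_mem K K' (y : K') hfix
  have hy : y ^ n ∈ Q := Ideal.pow_mem_of_mem _ (by
    show ∏ σ, act σ x ∈ Q
    rw [← Finset.mul_prod_erase Finset.univ _ (Finset.mem_univ AlgEquiv.refl)]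
    exact Ideal.mul_mem_right _ _ ((Subtype.ext rfl : act AlgEquiv.refl x = x).symm ▸ hx)) n hn
  have hyP : y ∈ P := ‹P.IsPrime›.mem_of_pow_mem n ((h (y ^ n) c hc).mpr hy)
  obtain ⟨σ, -, hσ⟩ := ‹P.IsPrime›.prod_mem_iff.mp hyP
  exact Set.mem_biUnion (Finset.mem_coe.mpr (Finset.mem_univ σ)) hσ

variable [IsNoetherianRing A] [IsDomain A]

/-- Only finitely many primes of the normalisation lie over a given prime. -/
theorem finite_over (p : Ideal A) [p.IsPrime] :
    {P : Ideal (integralClosure A K) | P.IsPrime ∧
      P.comap (algebraMap A (integralClosure A K)) = p}.Finite := by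
  let R := Localization.AtPrime p
  have hR : ∀ x : p.primeCompl, IsUnit (Algebra.ofId A K x) := fun x =>
    isUnit_iff_ne_zero.mpr ((map_ne_zero_iff _ (IsFractionRing.injective A K)).mpr fun h => x.2 (by
      show (x : A) ∈ p
      rw [h]; exact p.zero_mem))
  let : Algebra R K := (IsLocalization.lift (S := R) (g := algebraMap A K) hR).toAlgebra
  have : IsScalarTower A R K := IsScalarTower.of_algebraMap_eq fun a =>
    (IsLocalization.lift_eq (S := R) hR a).symm
  have : IsDomain R := IsLocalization.isDomain_localization p.primeCompl_le_nonZeroDivisors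
  have : IsFractionRing R K :=
    IsFractionRing.isFractionRing_of_isDomain_of_isLocalization p.primeCompl R K
  let : Algebra (FractionRing R) K := FractionRing.liftAlgebra R K
  have : FiniteDimensional (FractionRing R) K :=
    Module.Finite.of_surjective (Algebra.linearMap _ _) fun z => by
      obtain ⟨a, b, -, rfl⟩ := IsFractionRing.div_surjective (A := R) z
      exact ⟨algebraMap R _ a / algebraMap R _ b, by
        rw [Algebra.linearMap_apply, map_div₀, ← IsScalarTower.algebraMap_apply,
          ← IsScalarTower.algebraMap_apply]⟩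
  have hfin := (S2474.result (A := R) (K' := K)).1
  let ι : integralClosure A K →+* integralClosure R K :=
    RingHom.codRestrict (integralClosure A K).val.toRingHom _ fun x => x.2.tower_top
  let : Algebra (integralClosure A K) (integralClosure R K) := ι.toAlgebra
  have : IsScalarTower (integralClosure A K) (integralClosure R K) K :=
    IsScalarTower.of_algebraMap_eq fun _ => rfl
  have : IsScalarTower A (integralClosure A K) (integralClosure R K) :=
    IsScalarTower.of_algebraMap_eq fun a => Subtype.ext rfl
  have : IsLocalization (Algebra.algebraMapSubmonoid K p.primeCompl) K :=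
    IsLocalization.self fun x hx => by
      obtain ⟨a, ha, rfl⟩ := hx
      exact hR ⟨a, ha⟩
  have hloc := IsLocalization.integralClosure (R := A) (S := K) (Rf := R) (Sf := K) p.primeCompl
  refine (hfin.image (Ideal.comap ι)).subset fun P hP => ?_
  obtain ⟨hP, hPp⟩ := hP
  have hd : Disjoint (Algebra.algebraMapSubmonoid (integralClosure A K) p.primeCompl :
      Set (integralClosure A K)) (P : Set (integralClosure A K)) :=
    Set.disjoint_left.mpr fun x hx hxP => by
      obtain ⟨a, ha, rfl⟩ := hx
      exact ha (show a ∈ p from hPp ▸ hxP)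
  have hc := IsLocalization.comap_map_of_isPrime_disjoint _ (integralClosure R K) hP hd
  have hprime := IsLocalization.isPrime_of_isPrime_disjoint _ (integralClosure R K) P hP hd
  refine ⟨P.map ι, ?_, hc⟩
  refine Ideal.isMaximal_of_isIntegral_of_isMaximal_comap (R := R) _ ?_
  suffices h : (P.map ι).comap (algebraMap R (integralClosure R K)) = IsLocalRing.maximalIdeal R by
    rw [h]; exact IsLocalRing.maximalIdeal.isMaximal R
  refine (IsLocalization.map_comap p.primeCompl R _).symm.trans ?_
  rw [← Localization.AtPrime.map_eq_maximalIdeal]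
  congr 1
  refine Eq.trans ?_ hPp
  conv_rhs => rw [← hc]
  simp only [Ideal.under, Ideal.comap_comap]
  congr 1
  exact RingHom.ext fun a => Subtype.ext (IsScalarTower.algebraMap_apply A R K a).symm

/-- A finite birational extension over which the branches at a prime are separated. -/
theorem exists_separating (p : Ideal A) [p.IsPrime] :
    ∃ A₁ : Subalgebra A K, A₁.toSubmodule.FG ∧ A₁ ≤ integralClosure A K ∧
      ∀ P Q : Ideal (integralClosure A K), P.IsPrime → Q.IsPrime →
        P.comap (algebraMap A _) = p → Q.comap (algebraMap A _) = p →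
        (∀ x : integralClosure A K, (x : K) ∈ A₁ → (x ∈ P ↔ x ∈ Q)) → P = Q := by
  classical
  let s := (finite_over A K p).toFinset
  have hsep : ∀ pq : Ideal (integralClosure A K) × Ideal (integralClosure A K),
      ∃ x : integralClosure A K, pq.1 ≠ pq.2 → ¬(x ∈ pq.1 ↔ x ∈ pq.2) := fun pq => by
    by_cases h : pq.1 = pq.2
    · exact ⟨0, fun h' => absurd h h'⟩
    · by_contra hc
      push Not at hc
      exact h (Ideal.ext fun x => (hc x).2)
  choose x hx using hsep
  let G : Set K := (fun pq => (x pq : K)) '' (↑(s ×ˢ s) : Set (_ × _))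
  have hG : ∀ z ∈ G, IsIntegral A z := by
    rintro _ ⟨pq, -, rfl⟩
    exact (x pq).2
  refine ⟨Algebra.adjoin A G, fg_adjoin_of_finite ((s ×ˢ s).finite_toSet.image _) hG,
    Algebra.adjoin_le hG, fun P Q hP hQ hPp hQp h => ?_⟩
  by_contra hne
  refine hx (P, Q) hne (h _ (Algebra.subset_adjoin ⟨(P, Q), ?_, rfl⟩))
  simp only [s, Finset.coe_product, Set.mem_prod, Finset.mem_coe, Set.Finite.mem_toFinset]
  exact ⟨⟨hP, hPp⟩, ⟨hQ, hQp⟩⟩

end Groth.Agent.H46.LocSec.Branch
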