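import Groth.Agent.H46.SubStalk
import Groth.Agent.H75.RedSub
import Groth.Agent.H46.UnivOpenTrdeg
import Groth.Agent.H46.DimData
import Groth.Agent.Lib.FibreDim.Semicont
import Mathlib.RingTheory.ZariskisMainTheorem
import Mathlib.FieldTheory.IsAlgClosed.Basic

/-!
# Finite quasi-sections of universally open morphisms
-/

set_option autoImplicit false

universe u

open CategoryTheory CategoryTheory.Limits AlgebraicGeometry

namespace Groth.Agent.H46.LocSec.Datum

/-- Every non-empty fibre of a morphism locally of finite type has a point closed in it. -/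
theorem exists_closed_fibre {X Y : Scheme.{u}} (f : X ⟶ Y) [LocallyOfFiniteType f] [Surjective f]
    (y : Y) : ∃ x : X, f x = y ∧ ∀ x' : X, f x' = f x → x ⤳ x' → x' = x := by
  obtain ⟨a, rfl⟩ := f.surjective y
  have : LocallyOfFiniteType (f.fiberToSpecResidueField (f a)) :=
    MorphismProperty.pullback_snd _ _ ‹LocallyOfFiniteType f›
  have : JacobsonSpace ↥(f.fiber (f a)) :=
    LocallyOfFiniteType.jacobsonSpace (f.fiberToSpecResidueField (f a))
  obtain ⟨z, -, hz⟩ := nonempty_inter_closedPoints (Z := (Set.univ : Set ↥(f.fiber (f a))))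
    ⟨f.asFiber a, trivial⟩ isClosed_univ.isLocallyClosed
  have hfz : f (f.fiberι (f a) z) = f a := (f.range_fiberι (f a)).le ⟨z, rfl⟩
  refine ⟨_, hfz, fun x' hx' hs => ?_⟩
  obtain ⟨z', rfl⟩ : x' ∈ Set.range (f.fiberι (f a)) := (f.range_fiberι _).ge (hx'.trans hfz)
  rw [(f.fiberι (f a)).isEmbedding.isInducing.specializes_iff] at hs
  rw [show z' = z from hs.mem_closed hz rfl]

/-- A universally open morphism has a quasi-finite affine dominant quasi-section through every point
closed in its fibre over an integral noetherian base. -/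
theorem exists_affine_quasiSection {X Y : Scheme.{u}} [IsIntegral Y] [IsLocallyNoetherian Y]
    (f : X ⟶ Y) [LocallyOfFiniteType f] [UniversallyOpen f] (x : X)
    (hcl : ∀ x' : X, f x' = f x → x ⤳ x' → x' = x) :
    ∃ (T : Scheme.{u}) (i : T ⟶ X), IsAffine T ∧ IsIntegral T ∧
      LocallyOfFiniteType (i ≫ f) ∧ LocallyQuasiFinite (i ≫ f) ∧
      IsDominant (i ≫ f) ∧ ∃ w : T, i w = x := by
  haveI := LocallyOfFiniteType.isLocallyNoetherian f
  have hx := Groth.Agent.H46.SubStalk.trd_eq_zero_of_closed f x hcl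
  obtain ⟨z, hfz, hzx, hzmax, hze⟩ := DimData.exists_fe_eq f x
  obtain ⟨ξ, hξz, hfξ, hle⟩ := UnivOpenTrdeg.exists_trd_le f z
    (fun {Y'} g Z' z' hz' => (pullback.snd f g).isOpenMap.image_mem_nhds) (genericPoint Y)
    (genericPoint_specializes _)
  have hη : ∀ y : Y, y ⤳ genericPoint Y → y = genericPoint Y :=
    fun y hy => (hy.antisymm (genericPoint_specializes y)).eq
  obtain ⟨ξ', hξ'x, hfξ', hb⟩ := Groth.Agent.H46.SubStalk.exists_quasiSection f x hx
    (FibreTrdeg.trd f ξ) ξ (hξz.trans hzx) (fun y hy => by rw [hfξ] at hy ⊢; exact hη y hy) rfl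
    fun a _ _ hax => (DimData.trd_le_fe f hax).trans (hze ▸ hle)
  let X₁ : TopologicalSpace.Closeds X := ⟨closure {ξ'}, isClosed_closure⟩
  let i := (Scheme.IdealSheafData.vanishingIdeal X₁).subschemeι
  have hr : Set.range i = closure {ξ'} := by
    rw [Scheme.IdealSheafData.range_subschemeι, Scheme.IdealSheafData.coe_support_vanishingIdeal]
    rfl
  obtain ⟨w, rfl⟩ : x ∈ Set.range i := by rw [hr]; exact hξ'x.mem_closure
  obtain ⟨w₀, hw₀⟩ : ξ' ∈ Set.range i := by rw [hr]; exact subset_closure rfl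
  have hgen : ∀ a, w₀ ⤳ a := fun a => by
    rw [← i.isEmbedding.isInducing.specializes_iff, hw₀, specializes_iff_mem_closure, ← hr]
    exact ⟨a, rfl⟩
  let O : (Scheme.IdealSheafData.vanishingIdeal X₁).subscheme.Opens := ⟨_,
    Groth.Agent.Lib.FibreDim.Semicont.isOpen_setOf_fibreDimAt_le (i ≫ f)
      ((0 : ℕ) : WithBot ℕ∞)⟩
  have hwO : w ∈ O := by
    obtain ⟨z, hz, hzw, -, he⟩ := Groth.Agent.H46.DimData.exists_fe_eq (i ≫ f) w
    show FlatMor.fibreDimAt (i ≫ f) w ≤ _
    rw [Groth.Agent.H46.DimData.fibreDimAt_eq, Nat.cast_le, ← he,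
      Groth.Agent.H46.FibreTrdeg.trd_comp]
    exact hb _ (hw₀ ▸ (hgen z).map i.continuous) hz (hzw.map i.continuous)
  obtain ⟨V, hV, hwV, hVO⟩ :=
    AlgebraicGeometry.exists_isAffineOpen_mem_and_subset (x := w) (U := O) hwO
  haveI : IsAffine (V : Scheme.{u}) := hV
  haveI : IrreducibleSpace ↥(Scheme.IdealSheafData.vanishingIdeal X₁).subscheme :=
    (irreducibleSpace_def _).2 (by
      show IsIrreducible (Set.univ : Set ↥(Scheme.IdealSheafData.vanishingIdeal X₁).subscheme)
      rw [show (Set.univ : Set ↥(Scheme.IdealSheafData.vanishingIdeal X₁).subscheme) =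
        closure {w₀} from (Set.eq_univ_of_forall fun a => (hgen a).mem_closure).symm]
      exact isIrreducible_singleton.closure)
  have hVne : Nonempty ↥(V : Scheme.{u}) := ⟨⟨w, hwV⟩⟩
  haveI : IrreducibleSpace ↥(V : Scheme.{u}) := (irreducibleSpace_def _).2
      ⟨Set.univ_nonempty, (IrreducibleSpace.isIrreducible_univ
        ↥(Scheme.IdealSheafData.vanishingIdeal X₁).subscheme).2.preimage V.ι.isOpenEmbedding⟩
  haveI : AlgebraicGeometry.IsReduced (Scheme.IdealSheafData.vanishingIdeal X₁).subscheme :=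
    Groth.Agent.H75.RedSub.isReduced_vanishingIdeal X₁
  haveI : AlgebraicGeometry.IsReduced (V : Scheme.{u}) := isReduced_of_isOpenImmersion V.ι
  have hlft : LocallyOfFiniteType (V.ι ≫ i ≫ f) := inferInstance
  refine ⟨V, V.ι ≫ i, inferInstance, isIntegral_of_irreducibleSpace_of_isReduced _, ?_, ?_, ?_,
    ⟨w, hwV⟩, rfl⟩
  · simpa [Category.assoc] using hlft
  · rw [Category.assoc]
    refine (Scheme.Hom.quasiFiniteLocus_eq_top_iff _).1 (top_le_iff.1 fun a _ => ?_)
    refine Groth.Agent.Lib.FibreDim.Semicont.quasiFiniteAt_of_incomparable _ a fun z hz hza => ?_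
    have hb' : ∀ c : ↥(V : Scheme.{u}), Groth.Agent.H46.FibreTrdeg.trd (V.ι ≫ i ≫ f) c = 0 := by
      intro c
      rw [Groth.Agent.H46.FibreTrdeg.trd_comp]
      have := (Groth.Agent.H46.FibreTrdeg.trd_le_fibreDimAt (i ≫ f) _).trans (hVO c.2)
      exact Nat.le_zero.1 (by exact_mod_cast this)
    rcases hza with h | h
    · exact Groth.Agent.H46.FibreTrdeg.eq_of_trd_le _ h hz (by rw [hb', hb'])
    · exact (Groth.Agent.H46.FibreTrdeg.eq_of_trd_le _ h hz.symm (by rw [hb', hb'])).symm
  · rw [Category.assoc, isDominant_iff, DenseRange, dense_iff_closure_eq, Set.eq_univ_iff_forall]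
    intro y
    refine closure_mono (s := {f ξ'}) ?_ ?_
    · rintro _ rfl
      refine ⟨⟨w₀, (hgen w).mem_open V.2 hwV⟩, ?_⟩
      show f (i w₀) = f ξ'
      rw [hw₀]
    · rw [hfξ', hfξ, genericPoint_closure]; trivial

/-- A finite quasi-section over a prime of a noetherian domain. -/
theorem exists_datum {R : Type u} [CommRing R] [IsDomain R] [IsNoetherianRing R] {X : Scheme.{u}}
    (f : X ⟶ Spec (CommRingCat.of R)) [LocallyOfFiniteType f] [UniversallyOpen f] [Surjective f]
    (p : Ideal R) [p.IsPrime] (Ω : Type u) [Field Ω] [IsAlgClosed Ω] [Algebra R Ω]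
    [FaithfulSMul R Ω] :
    ∃ B : Subalgebra R Ω, B.toSubmodule.FG ∧ ∃ (q : Ideal B) (_ : q.IsPrime),
      q.comap (algebraMap R B) = p ∧ ∃ g : B, g ∉ q ∧
        ∃ t : Spec (CommRingCat.of (Localization.Away g)) ⟶ X,
          t ≫ f = Spec.map (CommRingCat.ofHom (algebraMap R (Localization.Away g))) := by
  obtain ⟨x, hxp, hcl⟩ := exists_closed_fibre f (⟨p, inferInstance⟩ : PrimeSpectrum R)
  obtain ⟨T, i, hT, hTi, hlft, hlqf, hdom, w, rfl⟩ := exists_affine_quasiSection f x hcl
  let R' := Γ(T, ⊤)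
  obtain ⟨φ, hφ⟩ := Spec.map_surjective (T.isoSpec.inv ≫ i ≫ f)
  let : Algebra R R' := φ.hom.toAlgebra
  have hlft' : LocallyOfFiniteType (Spec.map φ) := by rw [hφ]; infer_instance
  have hlqf' : LocallyQuasiFinite (Spec.map φ) := by rw [hφ]; infer_instance
  have hdom' : IsDominant (Spec.map φ) := by rw [hφ]; infer_instance
  have : Algebra.FiniteType R R' :=
    (HasRingHomProperty.Spec_iff (P := @LocallyOfFiniteType)).mp hlft'
  have : Algebra.QuasiFinite R R' :=
    (HasRingHomProperty.Spec_iff (P := @LocallyQuasiFinite)).mp hlqf'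
  have hinj : Function.Injective (algebraMap R R') := by
    rw [RingHom.injective_iff_ker_eq_bot, ← le_bot_iff]
    have hd : DenseRange (PrimeSpectrum.comap (algebraMap R R')) := hdom'.denseRange
    exact ((PrimeSpectrum.denseRange_comap_iff_ker_le_nilRadical (algebraMap R R')).mp hd).trans
      (nilradical_eq_zero R).le
  let P : PrimeSpectrum R' := T.isoSpec.hom w
  have hPp : P.asIdeal.comap (algebraMap R R') = p := by
    have h1 : Spec.map φ (T.isoSpec.hom w) = ((i ≫ f) w) := by
      rw [hφ, Scheme.Hom.comp_apply]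
      congr 1
      rw [← Scheme.Hom.comp_apply T.isoSpec.hom, T.isoSpec.hom_inv_id]
      rfl
    exact congrArg PrimeSpectrum.asIdeal (h1.trans hxp)
  obtain ⟨S', hS', r, hr, hbij⟩ :=
    Algebra.QuasiFiniteAt.exists_fg_and_exists_notMem_and_awayMap_bijective (R := R) P.asIdeal
  have : Module.Finite R S' := ⟨(Submodule.fg_top _).mpr hS'⟩
  have : Algebra.IsIntegral R S' := Algebra.IsIntegral.of_finite R S'
  have : IsDomain R' := inferInstanceAs (IsDomain Γ(T, ⊤))
  have : FaithfulSMul R S' := (faithfulSMul_iff_algebraMap_injective _ _).mpr fun a b h =>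
    hinj (congrArg Subtype.val h)
  let ψ : S' →ₐ[R] Ω := IsAlgClosed.lift
  have hψ : Function.Injective ψ := by
    rw [injective_iff_map_eq_zero]
    intro b hb
    have : (RingHom.ker ψ.toRingHom).IsPrime := RingHom.ker_isPrime _
    have hker : RingHom.ker ψ.toRingHom = ⊥ := by
      refine Ideal.eq_bot_of_comap_eq_bot (R := R) (le_bot_iff.mp fun a ha => ?_)
      have ha' : ψ (algebraMap R S' a) = 0 := ha
      rw [AlgHom.commutes] at ha'
      exact (map_eq_zero_iff _ (FaithfulSMul.algebraMap_injective R Ω)).mp ha'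
    exact (hker.le (show b ∈ RingHom.ker ψ.toRingHom from hb) :)
  let e : S' ≃ₐ[R] ψ.range := AlgEquiv.ofInjective ψ hψ
  have hfg : ψ.range.toSubmodule.FG := by
    have := (Submodule.fg_top (Subalgebra.toSubmodule S')).mpr hS'
    have h2 := this.map ψ.toLinearMap
    convert h2 using 1
    ext y
    simp
  let q₀ : Ideal S' := P.asIdeal.comap S'.val.toRingHom
  refine ⟨ψ.range, hfg, q₀.comap e.symm.toRingEquiv.toRingHom, inferInstance, ?_, e r, ?_, ?_⟩
  · rw [Ideal.comap_comap, Ideal.comap_comap, ← hPp]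
    congr 1
    refine RingHom.ext fun a => ?_
    show (e.symm (algebraMap R ψ.range a) : R') = algebraMap R R' a
    rw [AlgEquiv.commutes]
    rfl
  · show ¬(e.symm (e r) : R') ∈ P.asIdeal
    rw [AlgEquiv.symm_apply_apply]
    exact hr
  · have hu : IsUnit (((algebraMap ψ.range (Localization.Away (e r))).comp e.toRingEquiv.toRingHom) r) :=
      IsLocalization.Away.algebraMap_isUnit (e r)
    let β : Localization.Away r →+* Localization.Away (e r) :=
      IsLocalization.Away.lift r hu
    let κ := RingEquiv.ofBijective _ hbij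
    let χ : R' →+* Localization.Away (e r) :=
      β.comp (κ.symm.toRingHom.comp (algebraMap R' (Localization.Away (S'.val.toRingHom r))))
    refine ⟨Spec.map (CommRingCat.ofHom χ) ≫ T.isoSpec.inv ≫ i, ?_⟩
    rw [Category.assoc, Category.assoc, ← hφ, ← Spec.map_comp]
    congr 1
    refine CommRingCat.hom_ext (RingHom.ext fun a => ?_)
    show χ (algebraMap R R' a) = _
    have h1 : κ.symm (algebraMap R' _ (algebraMap R R' a)) =
        algebraMap S' (Localization.Away r) (algebraMap R S' a) := by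
      rw [RingEquiv.symm_apply_eq]
      simp only [κ, RingEquiv.ofBijective_apply, Localization.awayMap, IsLocalization.Away.map]
      rw [IsLocalization.map_eq]
      rfl
    simp only [χ, RingHom.comp_apply]
    erw [h1]
    rw [show β = IsLocalization.Away.lift r hu from rfl, IsLocalization.Away.lift_eq]
    refine (congrArg (algebraMap ψ.range (Localization.Away (e r))) (e.commutes a)).trans ?_
    exact (IsScalarTower.algebraMap_apply R ψ.range (Localization.Away (e r)) a).symm

end Groth.Agent.H46.LocSec.Datum
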