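import Groth.Agent.H46.LocSec.Global
import Groth.Agent.H54.ChevNoeth

/-!
# Affine morphisms descend along universally open surjective morphisms of noetherian schemes
-/

set_option autoImplicit false

universe u

open CategoryTheory CategoryTheory.Limits AlgebraicGeometry

namespace Groth.Agent.H46.LocSec.Descent

theorem isAffineOpen_preimage {X Y Y' : Scheme.{u}} [IsLocallyNoetherian Y]
    (f : X ⟶ Y) [LocallyOfFiniteType f] (g : Y' ⟶ Y) [LocallyOfFiniteType g] [UniversallyOpen g]
    [Surjective g] [IsAffineHom (pullback.snd f g)] (V : Y.Opens) (hV : IsAffineOpen V) :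
    IsAffineOpen (f ⁻¹ᵁ V) := by
  have : IsAffine (V : Scheme.{u}) := hV
  have : IsNoetherian (V : Scheme.{u}) := ⟨⟩
  have : LocallyOfFiniteType (g ∣_ V) := IsZariskiLocalAtTarget.restrict (P := @LocallyOfFiniteType) ‹_› V
  have : UniversallyOpen (g ∣_ V) := IsZariskiLocalAtTarget.restrict (P := @UniversallyOpen) ‹_› V
  have : Surjective (g ∣_ V) := IsZariskiLocalAtTarget.restrict (P := @Surjective) ‹_› V
  obtain ⟨Z, q, hq, hqs, hsec⟩ := Global.exists_global (g ∣_ V)
  have : LocallyOfFiniteType (f ∣_ V) := IsZariskiLocalAtTarget.restrict (P := @LocallyOfFiniteType) ‹_› V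
  have : IsAffine Z := isAffine_of_isAffineHom q
  have haff : IsAffineHom (pullback.snd (f ∣_ V) q) := by
    refine IsZariskiLocalAtTarget.of_forall_exists_morphismRestrict fun z => ?_
    obtain ⟨W, j, hj, hz, t, ht⟩ := hsec z
    refine ⟨j.opensRange, hz, ?_⟩
    rw [MorphismProperty.arrow_mk_iso_iff @IsAffineHom
      (morphismRestrictOpensRange (pullback.snd (f ∣_ V) q) j)]
    let T := pullback (pullback.snd (f ∣_ V) q) j
    have h1 : IsPullback (pullback.fst (pullback.snd (f ∣_ V) q) j ≫ pullback.fst (f ∣_ V) q)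
        (pullback.snd (pullback.snd (f ∣_ V) q) j) (f ∣_ V) (j ≫ q) :=
      (IsPullback.of_hasPullback _ _).paste_horiz (IsPullback.of_hasPullback _ _)
    have h2 := h1.paste_horiz (isPullback_morphismRestrict f V).flip
    have he : (j ≫ q) ≫ V.ι = (t ≫ (g ⁻¹ᵁ V).ι) ≫ g := by
      rw [← ht, Category.assoc, morphismRestrict_ι, Category.assoc]
    rw [he] at h2
    have h3 := IsPullback.of_hasPullback f g
    let k := h3.lift ((pullback.fst (pullback.snd (f ∣_ V) q) j ≫ pullback.fst (f ∣_ V) q) ≫ (f ⁻¹ᵁ V).ι)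
      (pullback.snd (pullback.snd (f ∣_ V) q) j ≫ t ≫ (g ⁻¹ᵁ V).ι) (h2.w.trans (Category.assoc _ _ _).symm)
    have h4 : IsPullback k (pullback.snd (pullback.snd (f ∣_ V) q) j) (pullback.snd f g)
        (t ≫ (g ⁻¹ᵁ V).ι) :=
      IsPullback.of_right (by rw [h3.lift_fst]; exact h2) (h3.lift_snd _ _ _) h3
    exact MorphismProperty.of_isPullback h4 ‹IsAffineHom (pullback.snd f g)›
  have : IsAffine (pullback (f ∣_ V) q) := isAffine_of_isAffineHom (pullback.snd (f ∣_ V) q)
  have : CompactSpace ↥(↑(f ⁻¹ᵁ V) : Scheme.{u}) :=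
    (pullback.fst (f ∣_ V) q).surjective.compactSpace (pullback.fst (f ∣_ V) q).continuous
  have : IsLocallyNoetherian (↑(f ⁻¹ᵁ V) : Scheme.{u}) := LocallyOfFiniteType.isLocallyNoetherian (f ∣_ V)
  have : IsNoetherian (↑(f ⁻¹ᵁ V) : Scheme.{u}) := ⟨⟩
  exact H54.ChevNoeth.isAffine_of_finite_surjective (pullback.fst (f ∣_ V) q)

end Groth.Agent.H46.LocSec.Descent
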