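import Groth.Agent.H46.LocSec.Branch
import Groth.Agent.H46.LocSec.Datum
import Mathlib.FieldTheory.Normal.Closure

/-!
# Finite extensions of a noetherian domain with local sections
-/

set_option autoImplicit false

universe u

open CategoryTheory CategoryTheory.Limits AlgebraicGeometry

namespace Groth.Agent.H46.LocSec.Domain

set_option maxHeartbeats 1600000 in
theorem exists_finite_domain {A : Type u} [CommRing A] [IsDomain A] [IsNoetherianRing A]
    {X : Scheme.{u}} (f : X ⟶ Spec (CommRingCat.of A)) [LocallyOfFiniteType f] [UniversallyOpen f]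
    [Surjective f] (p : Ideal A) [p.IsPrime] :
    ∃ (C : Type u) (_ : CommRing C) (_ : Algebra A C), Module.Finite A C ∧
      Function.Injective (algebraMap A C) ∧
      ∀ Q : Ideal C, Q.IsPrime → Q.comap (algebraMap A C) = p →
        ∃ g : C, g ∉ Q ∧ ∃ t : Spec (CommRingCat.of (Localization.Away g)) ⟶ X,
          t ≫ f = Spec.map (CommRingCat.ofHom (algebraMap A (Localization.Away g))) := by
  classical
  let K := FractionRing A
  let Ω := AlgebraicClosure K
  obtain ⟨A₁, hfg, hle, hsep⟩ := Branch.exists_separating A K p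
  let A' := integralClosure A K
  let ι := {P : Ideal A' // P.IsPrime ∧ P.comap (algebraMap A A') = p}
  have : Finite ι := (Branch.finite_over A K p).to_subtype
  have hA₁ : Module.Finite A A₁ := ⟨(Submodule.fg_top _).mpr hfg⟩
  have : IsNoetherianRing A₁ := IsNoetherianRing.of_finite A A₁
  have : FaithfulSMul A₁ Ω := (faithfulSMul_iff_algebraMap_injective _ _).mpr
    ((algebraMap K Ω).injective.comp Subtype.val_injective)
  let j : A₁ →ₐ[A] A' := Subalgebra.inclusion hle
  let f₁ := pullback.snd f (Spec.map (CommRingCat.ofHom (algebraMap A A₁)))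
  have hdat : ∀ P : ι, ∃ B : Subalgebra A₁ Ω, B.toSubmodule.FG ∧
      ∃ (q : Ideal B) (_ : q.IsPrime), q.comap (algebraMap A₁ B) = P.1.comap j.toRingHom ∧
        ∃ g : B, g ∉ q ∧ ∃ t : Spec (CommRingCat.of (Localization.Away g)) ⟶ pullback f _,
          t ≫ f₁ = Spec.map (CommRingCat.ofHom (algebraMap A₁ (Localization.Away g))) := fun P => by
    have := P.2.1
    exact Datum.exists_datum f₁ (P.1.comap j.toRingHom) Ω
  choose B hB q hq hqP g hg t ht using hdat
  have hBfin : ∀ P, ((B P).restrictScalars A).toSubmodule.FG := fun P => by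
    have : Module.Finite A₁ (B P) := ⟨(Submodule.fg_top _).mpr (hB P)⟩
    have : Module.Finite A (B P) := Module.Finite.trans A₁ _
    have : Module.Finite A ((B P).restrictScalars A) := this
    exact (Submodule.fg_top _).mp
      (Module.Finite.fg_top : (⊤ : Submodule A ((B P).restrictScalars A)).FG)
  choose G hG using hBfin
  let S : Finset Ω := (Fintype.ofFinite ι).elems.biUnion G
  have hGS : ∀ P, (G P : Set Ω) ⊆ S := fun P x hx =>
    Finset.mem_biUnion.mpr ⟨P, (Fintype.ofFinite ι).complete P, hx⟩
  let M := IntermediateField.adjoin K (S : Set Ω)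
  have : FiniteDimensional K M := IntermediateField.finiteDimensional_adjoin fun x _ =>
    (Algebra.IsAlgebraic.isAlgebraic x).isIntegral
  let N : IntermediateField K Ω := IntermediateField.normalClosure K M Ω
  have hMN : M ≤ N := IntermediateField.le_normalClosure M
  have : FiniteDimensional K N := normalClosure.is_finiteDimensional K M Ω
  have : Normal K N := normalClosure.normal K M Ω
  have hBN : ∀ P, ∀ b ∈ B P, b ∈ N := by
    intro P b hb
    have hb' : b ∈ Submodule.span A (G P : Set Ω) := by rw [hG P]; exact hb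
    refine Submodule.span_le (p := (N.toSubalgebra.restrictScalars A).toSubmodule).mpr ?_ hb'
    exact fun x hx => hMN (IntermediateField.subset_adjoin K _ (hGS P hx))
  let emb : ∀ P, B P →ₐ[A] N := fun P =>
    AlgHom.codRestrict (((B P).restrictScalars A).val) (N.toSubalgebra.restrictScalars A)
      fun b => hBN P b b.2
  have hint : ∀ P (b : B P), IsIntegral A (emb P b) := fun P b => by
    have : Module.Finite A₁ (B P) := ⟨(Submodule.fg_top _).mpr (hB P)⟩
    have : Module.Finite A (B P) := Module.Finite.trans A₁ _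
    exact (IsIntegral.of_finite A b).map (emb P)
  let S' := integralClosure A N
  let Z : Set N := ⋃ σ : N ≃ₐ[K] N, ⋃ P, σ '' (emb P '' {b | (b : Ω) ∈ G P})
  have hZfin : Z.Finite := Set.finite_iUnion fun σ => Set.finite_iUnion fun P =>
    (((G P).finite_toSet.preimage Subtype.val_injective.injOn).image _).image _
  have hZint : ∀ z ∈ Z, IsIntegral A z := by
    intro z hz
    obtain ⟨σ, P, _, ⟨b, -, rfl⟩, rfl⟩ := by simpa only [Z, Set.mem_iUnion, Set.mem_image] using hz
    exact (hint P b).map (σ.restrictScalars A)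
  let C := Algebra.adjoin A Z
  have hCS : C ≤ S' := Algebra.adjoin_le hZint
  have hfinC : Module.Finite A C := ⟨(Submodule.fg_top _).mpr (fg_adjoin_of_finite hZfin hZint)⟩
  have hmem : ∀ (σ : N ≃ₐ[K] N) P (b : B P), σ (emb P b) ∈ C := by
    intro σ P b
    have hb' : (b : Ω) ∈ Submodule.span A (G P : Set Ω) := by rw [hG P]; exact b.2
    suffices ∀ y ∈ Submodule.span A (G P : Set Ω), ∀ hy : y ∈ B P, σ (emb P ⟨y, hy⟩) ∈ C from
      this b hb' b.2
    intro y hy
    induction hy using Submodule.span_induction with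
    | mem y hy =>
      exact fun h => Algebra.subset_adjoin (Set.mem_iUnion₂.mpr ⟨σ, P, _, ⟨⟨y, h⟩, hy, rfl⟩, rfl⟩)
    | zero =>
      intro h
      rw [show (⟨0, h⟩ : B P) = 0 from rfl, map_zero, map_zero]
      exact zero_mem _
    | add y z hy hz iy iz =>
      intro h
      have h1 : y ∈ B P := by
        have : y ∈ ((B P).restrictScalars A).toSubmodule := hG P ▸ hy
        exact this
      have h2 : z ∈ B P := by
        have : z ∈ ((B P).restrictScalars A).toSubmodule := hG P ▸ hz
        exact this
      rw [show (⟨y + z, h⟩ : B P) = ⟨y, h1⟩ + ⟨z, h2⟩ from rfl, map_add, map_add]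
      exact add_mem (iy h1) (iz h2)
    | smul a y hy iy =>
      intro h
      have h1 : y ∈ B P := by
        have : y ∈ ((B P).restrictScalars A).toSubmodule := hG P ▸ hy
        exact this
      rw [show (⟨a • y, h⟩ : B P) = a • ⟨y, h1⟩ from rfl, map_smul]
      exact (show σ.restrictScalars A (a • emb P ⟨y, h1⟩) ∈ C by
        rw [map_smul]; exact Subalgebra.smul_mem _ (iy h1) a)
  refine ⟨C, inferInstance, inferInstance, hfinC, fun a b h => ?_, fun Q hQ hQp => ?_⟩
  · exact IsFractionRing.injective A K ((algebraMap K N).injective (congrArg Subtype.val h))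
  let iC : C →ₐ[A] S' := Subalgebra.inclusion hCS
  algebraize [iC.toRingHom]
  have : IsScalarTower A C S' := IsScalarTower.of_algebraMap_eq fun a => (iC.commutes a).symm
  have : Algebra.IsIntegral C S' := Algebra.IsIntegral.tower_top A
  obtain ⟨Q', -, hQ', hQ'Q⟩ := Ideal.exists_ideal_over_prime_of_isIntegral (S := S') Q ⊥
    (fun x hx => by
      rw [show x = 0 from Subalgebra.inclusion_injective hCS
        ((Ideal.mem_bot.mp hx).trans (map_zero _).symm)]
      exact zero_mem _)
  let k : A' →ₐ[A] S' := AlgHom.codRestrict ((IsScalarTower.toAlgHom A K N).comp A'.val) S'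
    fun x => x.2.map (IsScalarTower.toAlgHom A K N)
  have hQ'p : Q'.comap (algebraMap A S') = p := by
    rw [← hQp, ← hQ'Q, Ideal.comap_comap]
    congr 1
  let P : ι := ⟨Q'.comap k.toRingHom, inferInstance, by
    rw [Ideal.comap_comap, ← hQ'p]; congr 1⟩
  let eP : B P →ₐ[A] S' := AlgHom.codRestrict (emb P) S' (hint P)
  have hePinj : Function.Injective eP := fun a b h => by
    have h1 : (emb P a : N) = emb P b := congrArg Subtype.val h
    exact Subtype.ext (congrArg (Subtype.val : N → Ω) h1)
  let : Algebra (B P) S' := eP.toRingHom.toAlgebra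
  have : IsScalarTower A (B P) S' := IsScalarTower.of_algebraMap_eq fun a => (eP.commutes a).symm
  have : Algebra.IsIntegral (B P) S' := Algebra.IsIntegral.tower_top A
  have := hq P
  obtain ⟨P₀, -, hP₀, hP₀q⟩ := Ideal.exists_ideal_over_prime_of_isIntegral (R := B P) (S := S') (q P) ⊥
    (fun x hx => by
      rw [show x = 0 from hePinj ((Ideal.mem_bot.mp hx).trans (map_zero eP).symm)]
      exact zero_mem _)
  have hkA₁ : ∀ a : A₁, k (j a) = eP (algebraMap A₁ (B P) a) := fun a =>
    Subtype.ext (Subtype.ext rfl)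
  have hP₀A₁ : ∀ a : A₁, k (j a) ∈ P₀ ↔ k (j a) ∈ Q' := fun a => by
    rw [hkA₁]
    have h1 : algebraMap A₁ (B P) a ∈ q P ↔ j a ∈ P.1 := Ideal.ext_iff.mp (hqP P) a
    rw [← hP₀q] at h1
    refine h1.trans ?_
    rw [← hkA₁]
    rfl
  have hP₀p : P₀.comap (algebraMap A S') = p := by
    refine Eq.trans (Ideal.ext fun a => ?_) hQ'p
    have := hP₀A₁ (algebraMap A A₁ a)
    rw [j.commutes, k.commutes] at this
    exact this
  have heq : P₀.comap k.toRingHom = P.1 :=
    hsep _ _ inferInstance P.2.1
      (by rw [Ideal.comap_comap, ← hP₀p]; congr 1)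
      P.2.2 fun x hx => hP₀A₁ ⟨x, hx⟩
  obtain ⟨σ, hσ⟩ := Branch.exists_conj A K N P₀ Q' fun y c hc => by
    have hcint : IsIntegral A c := by
      rw [← isIntegral_algHom_iff (IsScalarTower.toAlgHom A K N) (algebraMap K N).injective]
      exact hc.symm ▸ y.2
    rw [show y = k ⟨c, hcint⟩ from Subtype.ext hc.symm]
    exact Ideal.ext_iff.mp heq ⟨c, hcint⟩
  let ψ : B P →ₐ[A] C :=
    AlgHom.codRestrict ((σ.symm.restrictScalars A).toAlgHom.comp (emb P)) C (hmem σ.symm P)
  refine ⟨ψ (g P), fun hmemQ => hg P ?_, ?_⟩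
  · rw [← hP₀q]
    rw [← hQ'Q] at hmemQ
    have := (hσ (iC (ψ (g P)))).mp hmemQ
    show eP (g P) ∈ P₀
    convert this using 1
    exact Subtype.ext (σ.apply_symm_apply _).symm
  · refine ⟨Spec.map (CommRingCat.ofHom (Localization.awayMap ψ.toRingHom (g P))) ≫ t P ≫
      pullback.fst f _, ?_⟩
    rw [Category.assoc, Category.assoc, pullback.condition, reassoc_of% (ht P), ← Spec.map_comp,
      ← Spec.map_comp]
    congr 1
    refine CommRingCat.hom_ext (RingHom.ext fun a => ?_)
    show Localization.awayMap ψ.toRingHom (g P)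
      (algebraMap A₁ (Localization.Away (g P)) (algebraMap A A₁ a)) = algebraMap A _ a
    rw [IsScalarTower.algebraMap_apply A₁ (B P) (Localization.Away (g P))]
    simp only [Localization.awayMap, IsLocalization.Away.map]
    rw [IsLocalization.map_eq]
    refine (congrArg (algebraMap C _) (ψ.commutes a)).trans ?_
    exact (IsScalarTower.algebraMap_apply A C _ a).symm

end Groth.Agent.H46.LocSec.Domain
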